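import Cfsg.Agent.Lib.SmallGroups.Basic
import Cfsg.Agent.Lib.SmallGroups.SylowLocal
import Mathlib

/-!
# A Sylow counting test for simple groups

For each prime dividing the order exactly once a simple group has a pair (Sylow number, order of
the Sylow centraliser) from a finite list; the pairs of two primes are compatible and the elements
of the corresponding orders must fit into the group.
-/

set_option autoImplicit false

namespace CfsgLib.SmallGroups.Order175560

open Subgroup

/-! ### The test -/

/-- The divisors of `∏ q ^ e`. -/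
def divsOf : List (ℕ × ℕ) → List ℕ
  | [] => [1]
  | (q, e) :: r => (List.range (e + 1)).flatMap fun i => (divsOf r).map fun y => q ^ i * y

/-- The admissible pairs for the prime `p`. -/
def opts (d p : ℕ) (D : List ℕ) : List (ℕ × ℕ) :=
  D.flatMap fun n =>
    (if n % p == 1 && decide (19 ≤ n) && (p != 19 || decide (210 ≤ n)) then D else []).filterMap fun c =>
      if c % p == 0 && d % (n * c) == 0 && d / (n * c) != 1 && (p - 1) % (d / (n * c)) == 0
      then some (n, c) else none

/-- Compatibility of a new pair with the chosen ones. -/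
def compat (p : ℕ) (o : ℕ × ℕ) (done : List (ℕ × ℕ × ℕ)) : Bool :=
  done.all fun x => (o.2 % x.1 == 0) == (x.2.2 % p == 0)

/-- The number of elements forced by a list of chosen pairs. -/
def total : List (ℕ × ℕ × ℕ) → List ℕ → ℕ
  | [], _ => 0
  | (p, n, c) :: r, done =>
    n * ((p - 1) * if done.any (fun q => c % q == 0) then 1 else c / p) + total r (p :: done)

/-- All ways to insert an element. -/
def inserts {α : Type*} (x : α) : List α → List (List α)
  | [] => [[x]]
  | y :: r => (x :: y :: r) :: (inserts x r).map (y :: ·)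

/-- All rearrangements (by structural recursion, so the kernel evaluates it). -/
def perms {α : Type*} : List α → List (List α)
  | [] => [[]]
  | x :: r => (perms r).flatMap (inserts x)

theorem perm_of_mem_inserts {α : Type*} {x : α} : ∀ {r l : List α}, l ∈ inserts x r → l.Perm (x :: r)
  | [], l, h => by simp [inserts] at h; rw [h]
  | y :: r, l, h => by
    rw [inserts, List.mem_cons, List.mem_map] at h
    rcases h with rfl | ⟨l', hl', rfl⟩
    · exact List.Perm.refl _
    · exact ((perm_of_mem_inserts hl').cons y).trans (List.Perm.swap x y r)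

theorem perm_of_mem_perms {α : Type*} : ∀ {r l : List α}, l ∈ perms r → l.Perm r
  | [], l, h => by simp [perms] at h; rw [h]
  | x :: r, l, h => by
    obtain ⟨l', hl', h'⟩ := List.mem_flatMap.mp h
    exact (perm_of_mem_inserts h').trans ((perm_of_mem_perms hl').cons x)

/-- No compatible choice fits into a group of order `d` (tested in several orders of counting). -/
def search (d : ℕ) (D : List ℕ) : List ℕ → List (ℕ × ℕ × ℕ) → Bool
  | [], done => (perms done).any fun l => decide (d ≤ total l [])
  | p :: ps, done => (opts d p D).all fun o => !compat p o done || search d D ps ((p, o) :: done)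

theorem mem_divsOf : ∀ (l : List (ℕ × ℕ)), (∀ x ∈ l, x.1.Prime) → ∀ {a : ℕ},
    a ∣ (l.map fun x => x.1 ^ x.2).prod → a ∈ divsOf l
  | [], _, a, h => by simp [Nat.dvd_one.mp (by simpa using h), divsOf]
  | (q, e) :: r, hl, a, h => by
    rw [List.map_cons, List.prod_cons] at h
    obtain ⟨y, z, hy, hz, rfl⟩ := Nat.dvd_mul.mp h
    obtain ⟨i, hi, rfl⟩ := (Nat.dvd_prime_pow (hl (q, e) (List.mem_cons_self ..))).mp hy
    exact List.mem_flatMap.mpr ⟨i, List.mem_range.mpr (Nat.lt_succ_of_le hi), List.mem_map.mpr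
      ⟨z, mem_divsOf r (fun x hx => hl x (List.mem_cons_of_mem _ hx)) hz, rfl⟩⟩

/-! ### The pairs of a group -/

section Group

variable {G : Type*} [Group G] [Finite G]

variable (G) in
/-- The Sylow number and the order of a Sylow centraliser. -/
noncomputable def sel (p : ℕ) : ℕ × ℕ :=
  (Nat.card (Sylow p G), Nat.card (centralizer (((default : Sylow p G) : Subgroup G) : Set G)))

theorem sel_snd {p : ℕ} [Fact p.Prime] (P : Sylow p G) :
    (sel G p).2 = Nat.card (centralizer ((P : Subgroup G) : Set G)) :=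
  CfsgLib.SmallGroups.SylowLocal.card_centralizer_sylow P default

theorem card_sylow_prime {p : ℕ} [hp : Fact p.Prime] (h1 : p ∣ Nat.card G)
    (h2 : ¬ p ^ 2 ∣ Nat.card G) (P : Sylow p G) : Nat.card (P : Subgroup G) = p := by
  rw [P.card_eq_multiplicity]
  have := (hp.out.pow_dvd_iff_le_factorization Nat.card_pos.ne').not.mp h2
  have := (hp.out.dvd_iff_one_le_factorization Nat.card_pos.ne').mp h1
  rw [show (Nat.card G).factorization p = 1 by omega, pow_one]

theorem sylow_le_centralizer {p : ℕ} [hp : Fact p.Prime] {P : Sylow p G}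
    (hP : Nat.card (P : Subgroup G) = p) :
    (P : Subgroup G) ≤ centralizer ((P : Subgroup G) : Set G) := by
  have := isCyclic_of_prime_card hP
  intro a ha b hb
  exact congrArg Subtype.val ((IsCyclic.commGroup (α := (P : Subgroup G))).mul_comm ⟨b, hb⟩ ⟨a, ha⟩)

theorem sel_mem_opts [IsSimpleGroup G] (hG : ¬ IsMulCommutative G) (h19 : 19 ∣ Nat.card G)
    {D : List ℕ} (hD : ∀ a, a ∣ Nat.card G → a ∈ D) (h210 : 210 ≤ Nat.card (Sylow 19 G))
    {p : ℕ} [hp : Fact p.Prime]
    (h1 : p ∣ Nat.card G) (h2 : ¬ p ^ 2 ∣ Nat.card G) : sel G p ∈ opts (Nat.card G) p D := by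
  obtain ⟨P⟩ : Nonempty (Sylow p G) := inferInstance
  have hP := card_sylow_prime h1 h2 P
  set n := Nat.card (Sylow p G) with hn
  set N := normalizer ((P : Subgroup G) : Set G)
  set C := centralizer ((P : Subgroup G) : Set G) with hC
  have hc : (sel G p).2 = Nat.card C := sel_snd P
  have hNG : n * Nat.card N = Nat.card G := card_sylow_mul_card_normalizer P
  have hCN : C ≤ N := centralizer_le_normalizer ((P : Subgroup G) : Set G)
  have hn19 : 19 ≤ n := (Nat.Prime.dvd_factorial (by norm_num : Nat.Prime 19)).mp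
    ((dvd_mul_of_dvd_right h19 2).trans (two_mul_card_dvd_factorial_card_sylow hG h1))
  have hk : Nat.card C * (C.subgroupOf N).index = Nat.card N := by
    rw [← Nat.card_congr (subgroupOfEquivOfLe hCN).toEquiv]
    exact card_mul_index _
  have hk1 : (C.subgroupOf N).index ≠ 1 := fun e => not_normalizer_le_centralizer hG h1 P (by
    rw [index_eq_one, subgroupOf_eq_top] at e
    exact e)
  have hkp : (C.subgroupOf N).index ∣ p - 1 := by
    have := isCyclic_of_prime_card hP
    have key := card_dvd_of_injective _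
      (QuotientGroup.kerLift_injective (P : Subgroup G).normalizerMonoidHom)
    rw [normalizerMonoidHom_ker, ← index, IsCyclic.card_mulAut, hP, Nat.totient_prime hp.out] at key
    exact key
  have hpC : p ∣ Nat.card C := (dvd_of_eq hP.symm).trans (card_dvd_of_le (sylow_le_centralizer hP))
  set k := (C.subgroupOf N).index with hkdef
  have hd : Nat.card G = n * Nat.card C * k := by rw [mul_assoc, hk, hNG]
  have hdiv : Nat.card G / (n * Nat.card C) = k := by
    rw [hd]
    exact Nat.mul_div_cancel_left _ (Nat.mul_pos Nat.card_pos Nat.card_pos)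
  refine List.mem_flatMap.mpr ⟨n, hD n card_sylow_dvd_card, List.mem_filterMap.mpr
    ⟨Nat.card C, ?_, ?_⟩⟩
  · rw [if_pos (by
      simp only [Bool.and_eq_true, Bool.or_eq_true, beq_iff_eq, bne_iff_ne, decide_eq_true_eq]
      exact ⟨⟨mod_eq_one_card_sylow, hn19⟩, (em (p = 19)).symm.imp id fun e => by subst e; exact h210⟩)]
    exact hD _ (card_subgroup_dvd_card C)
  · rw [if_pos (by
      simp only [hdiv, Bool.and_eq_true, beq_iff_eq, bne_iff_ne]
      exact ⟨⟨⟨Nat.mod_eq_zero_of_dvd hpC, Nat.mod_eq_zero_of_dvd ⟨k, hd⟩⟩, hk1⟩,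
        Nat.mod_eq_zero_of_dvd hkp⟩)]
    exact congrArg some (Prod.ext rfl hc.symm)

/-- If `q` divides the centraliser of a Sylow `p`-subgroup, then `p` divides that of `q`. -/
theorem dvd_sel_symm {p q : ℕ} [hp : Fact p.Prime] [hq : Fact q.Prime] (hp1 : p ∣ Nat.card G)
    (hp2 : ¬ p ^ 2 ∣ Nat.card G) (hq1 : q ∣ Nat.card G) (hq2 : ¬ q ^ 2 ∣ Nat.card G)
    (h : q ∣ (sel G p).2) : p ∣ (sel G q).2 := by
  obtain ⟨P⟩ : Nonempty (Sylow p G) := inferInstance
  rw [sel_snd P] at h
  obtain ⟨y, hy⟩ := exists_prime_orderOf_dvd_card' _ h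
  have hf : (Nat.card G).factorization q = 1 := by
    have := (hq.out.pow_dvd_iff_le_factorization Nat.card_pos.ne').not.mp hq2
    have := (hq.out.dvd_iff_one_le_factorization Nat.card_pos.ne').mp hq1
    omega
  let Q : Sylow q G := Sylow.ofCard (zpowers (y : G))
    (by rw [Nat.card_zpowers, Subgroup.orderOf_coe, hy, hf, pow_one])
  rw [sel_snd Q]
  refine (dvd_of_eq (card_sylow_prime hp1 hp2 P).symm).trans (card_dvd_of_le fun a ha => ?_)
  show a ∈ centralizer ((zpowers (y : G) : Subgroup G) : Set G)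
  rw [zpowers_eq_closure, centralizer_closure, mem_centralizer_singleton_iff]
  exact mem_centralizer_iff.mp y.2 a ha

/-- Elements `≠ 1` of order divisible by no prime in `done`. -/
def avoid (done : List ℕ) : Set G := {g | g ≠ 1 ∧ ∀ q ∈ done, ¬ q ∣ orderOf g}


theorem step {p : ℕ} [hp : Fact p.Prime] (h1 : p ∣ Nat.card G) (h2 : ¬ p ^ 2 ∣ Nat.card G)
    {done : List ℕ} (hdone : ∀ q ∈ done, q.Prime ∧ q ≠ p) :
    (sel G p).1 * ((p - 1) * if done.any (fun q => (sel G p).2 % q == 0) then 1
        else (sel G p).2 / p) ≤ Nat.card {g : G | g ∈ avoid done ∧ p ∣ orderOf g} := by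
  classical
  set m := if done.any (fun q => (sel G p).2 % q == 0) then 1 else (sel G p).2 / p with hm
  have key : ∀ P : Sylow p G, ∃ M : Subgroup G, M ≤ centralizer ((P : Subgroup G) : Set G) ∧
      Nat.card M = m ∧ ¬ p ∣ m ∧ ∀ q ∈ done, ∀ g ∈ centralizer ((P : Subgroup G) : Set G),
        q ∣ orderOf g → (M = ⊥) := by
    intro P
    have hP := card_sylow_prime h1 h2 P
    set C := centralizer ((P : Subgroup G) : Set G) with hC
    by_cases hany : done.any (fun q => (sel G p).2 % q == 0) = true
    · refine ⟨⊥, bot_le, by rw [card_bot, hm, if_pos hany], ?_, fun _ _ _ _ _ => rfl⟩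
      rw [hm, if_pos hany]
      exact hp.out.not_dvd_one
    · have hPC : (P : Subgroup G) ≤ C := sylow_le_centralizer hP
      let PC : Subgroup C := (P : Subgroup G).subgroupOf C
      have : PC.Normal := ⟨fun a ha c => by
        have h := mem_centralizer_iff.mp c.2 a ha
        show ((c * a * c⁻¹ : C) : G) ∈ (P : Subgroup G)
        rw [coe_mul, coe_mul, coe_inv, ← h, mul_inv_cancel_right]
        exact ha⟩
      have hPCc : Nat.card PC = p := (Nat.card_congr (subgroupOfEquivOfLe hPC).toEquiv).trans hP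
      have hidx : p * PC.index = Nat.card C := hPCc ▸ PC.card_mul_index
      have hcop : (Nat.card PC).Coprime PC.index := by
        rw [hPCc, hp.out.coprime_iff_not_dvd]
        intro hd
        refine h2 ?_
        rw [pow_two]
        exact ((mul_dvd_mul_left p hd).trans (dvd_of_eq hidx)).trans (card_subgroup_dvd_card C)
      obtain ⟨M, hM⟩ := Subgroup.exists_right_complement'_of_coprime hcop
      have hMc : Nat.card (M.map C.subtype) = m := by
        rw [card_map_of_injective C.subtype_injective, hm, if_neg hany, sel_snd P,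
          ← hidx, Nat.mul_div_cancel_left _ hp.out.pos, ← hM.symm.index_eq_card]
      refine ⟨M.map C.subtype, map_subtype_le _, hMc, ?_, fun q hq g hg hqg => absurd ?_ hany⟩
      · rw [hm, if_neg hany, sel_snd P, ← hidx, Nat.mul_div_cancel_left _ hp.out.pos, ← hPCc]
        exact fun hd => hp.out.ne_one (hPCc ▸ Nat.eq_one_of_dvd_coprimes hcop dvd_rfl hd)
      · rw [List.any_eq_true]
        refine ⟨q, hq, ?_⟩
        rw [sel_snd P, beq_iff_eq]
        exact Nat.mod_eq_zero_of_dvd (hqg.trans (C.orderOf_dvd_natCard hg))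
  choose M hMC hMc hMp hMbot using key
  let f : (Σ P : Sylow p G, {x : (P : Subgroup G) // x ≠ 1} × M P) → {g : G | g ∈ avoid done ∧ p ∣ orderOf g} :=
    fun z => ⟨(z.2.1.1 : G) * (z.2.2 : G), by
      obtain ⟨P, ⟨⟨x, hx⟩, hx1⟩, ⟨y, hy⟩⟩ := z
      have hP := card_sylow_prime h1 h2 P
      have hcomm : Commute x y := mem_centralizer_iff.mp (hMC P hy) x hx
      have hxo : orderOf x = p := by
        have h3 := (P : Subgroup G).orderOf_dvd_natCard hx
        rw [hP] at h3
        exact (hp.out.eq_one_or_self_of_dvd _ h3).resolve_left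
          fun e => hx1 (Subtype.ext (orderOf_eq_one_iff.mp e))
      have hyo : orderOf y ∣ m := hMc P ▸ (M P).orderOf_dvd_natCard hy
      have hco : (orderOf x).Coprime (orderOf y) := by
        rw [hxo]
        exact ((hp.out.coprime_iff_not_dvd).mpr (hMp P)).coprime_dvd_right hyo
      have ho : orderOf (x * y) = p * orderOf y := by
        rw [hcomm.orderOf_mul_eq_mul_orderOf_of_coprime hco, hxo]
      refine ⟨⟨fun e => ?_, fun q hq hqd => ?_⟩, ⟨orderOf y, ho⟩⟩
      · rw [e, orderOf_one] at ho
        exact hp.out.ne_one (Nat.eq_one_of_mul_eq_one_right ho.symm)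
      · obtain ⟨hq', hqp⟩ := hdone q hq
        have hmem : x * y ∈ centralizer ((P : Subgroup G) : Set G) :=
          mul_mem (sylow_le_centralizer hP hx) (hMC P hy)
        have hbot := hMbot P q hq (x * y) hmem hqd
        rw [hbot, mem_bot] at hy
        subst hy
        rw [mul_one, hxo] at hqd
        exact hqp ((Nat.prime_dvd_prime_iff_eq hq' hp.out).mp hqd)⟩
  have hinj : Function.Injective f := by
    rintro ⟨P, ⟨⟨x, hx⟩, hx1⟩, ⟨y, hy⟩⟩ ⟨P', ⟨⟨x', hx'⟩, hx1'⟩, ⟨y', hy'⟩⟩ h
    have he : x * y = x' * y' := congrArg Subtype.val h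
    have hP := card_sylow_prime h1 h2 P
    have hP' := card_sylow_prime h1 h2 P'
    have hx0 : ∀ {R : Sylow p G} {a : G} (ha : a ∈ (R : Subgroup G)),
        (⟨a, ha⟩ : (R : Subgroup G)) ≠ 1 → orderOf a = p := by
      intro R a ha ha1
      have h3 := (R : Subgroup G).orderOf_dvd_natCard ha
      rw [card_sylow_prime h1 h2 R] at h3
      exact (hp.out.eq_one_or_self_of_dvd _ h3).resolve_left
        fun e => ha1 (Subtype.ext (orderOf_eq_one_iff.mp e))
    have pw : ∀ {R : Sylow p G} {a b : G}, a ∈ (R : Subgroup G) → b ∈ M R → (a * b) ^ m = a ^ m := by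
      intro R a b ha hb
      have hc : Commute a b := mem_centralizer_iff.mp (hMC R hb) a ha
      rw [hc.mul_pow]
      have : b ^ m = 1 := orderOf_dvd_iff_pow_eq_one.mp (hMc R ▸ (M R).orderOf_dvd_natCard hb)
      rw [this, mul_one]
    have hxm : x ^ m = x' ^ m := by rw [← pw hx hy, he, pw hx' hy']
    have hne : x ^ m ≠ 1 := fun e => hMp P (hx0 hx hx1 ▸ orderOf_dvd_of_pow_eq_one e)
    obtain rfl : P = P' := by
      refine Sylow.ext ?_
      have ho : orderOf (x ^ m) = p := by
        have h3 := (P : Subgroup G).orderOf_dvd_natCard (pow_mem hx m)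
        rw [hP] at h3
        exact (hp.out.eq_one_or_self_of_dvd _ h3).resolve_left fun e => hne (orderOf_eq_one_iff.mp e)
      have e1 : zpowers (x ^ m) = (P : Subgroup G) := eq_of_le_of_card_ge
        (zpowers_le.mpr (pow_mem hx m)) (by rw [hP, Nat.card_zpowers, ho])
      have e2 : zpowers (x ^ m) = (P' : Subgroup G) := eq_of_le_of_card_ge
        (zpowers_le.mpr (hxm ▸ pow_mem hx' m)) (by rw [hP', Nat.card_zpowers, ho])
      exact e1.symm.trans e2
    obtain rfl : x = x' := by
      have hdiv : x'⁻¹ * x ∈ (P : Subgroup G) := mul_mem (inv_mem hx') hx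
      by_contra hne'
      have hne1 : x'⁻¹ * x ≠ 1 := fun e => hne' (inv_mul_eq_one.mp e).symm
      have h4 : x'⁻¹ * x = y' * y⁻¹ := by
        rw [eq_mul_inv_iff_mul_eq, mul_assoc, he, inv_mul_cancel_left]
      have ho := hx0 hdiv (fun e => hne1 (congrArg Subtype.val e))
      rw [h4] at ho
      exact hMp P (ho ▸ hMc P ▸ (M P).orderOf_dvd_natCard (mul_mem hy' (inv_mem hy)))
    obtain rfl : y = y' := mul_left_cancel he
    rfl
  refine le_trans (le_of_eq ?_) (Nat.card_le_card_of_injective f hinj)
  have := Fintype.ofFinite (Sylow p G)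
  rw [Nat.card_sigma, Finset.sum_congr rfl (fun P _ => (Nat.card_prod _ _).trans ?_), Finset.sum_const,
    Finset.card_univ, smul_eq_mul, ← Nat.card_eq_fintype_card]
  · rfl
  · rw [hMc P]
    congr 1
    have h5 := (Set.ncard_compl ({1} : Set (P : Subgroup G)))
    rw [Set.ncard_singleton, card_sylow_prime h1 h2 P] at h5
    rw [← h5, ← Nat.card_coe_set_eq]
    rfl

theorem total_le : ∀ (l : List ℕ) (done : List ℕ),
    (∀ p ∈ l, p.Prime ∧ p ∣ Nat.card G ∧ ¬ p ^ 2 ∣ Nat.card G) → (∀ q ∈ done, q.Prime) →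
    (done ++ l).Nodup → total (l.map fun p => (p, sel G p)) done ≤ Nat.card (avoid (G := G) done)
  | [], _, _, _, _ => Nat.zero_le _
  | p :: r, done, hl, hdone, hnd => by
    obtain ⟨hp, h1, h2⟩ := hl p (List.mem_cons_self ..)
    have := Fact.mk hp
    have hpd : p ∉ done := fun h =>
      (List.nodup_append.mp hnd).2.2 p h p (List.mem_cons_self ..) rfl
    have ih := total_le r (p :: done) (fun q hq => hl q (List.mem_cons_of_mem _ hq))
      (fun q hq => (List.mem_cons.mp hq).elim (fun e => e ▸ hp) (hdone q))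
      ((List.perm_middle.nodup_iff).mp hnd)
    have hs := step (G := G) h1 h2 (done := done) fun q hq => ⟨hdone q hq, fun e => hpd (e ▸ hq)⟩
    refine (Nat.add_le_add hs ih).trans (le_of_eq ?_)
    have e : avoid (G := G) (p :: done) = avoid done \ {g | g ∈ avoid done ∧ p ∣ orderOf g} := by
      ext g
      simp only [avoid, Set.mem_setOf_eq, Set.mem_diff, List.forall_mem_cons]
      tauto
    rw [Nat.card_coe_set_eq, Nat.card_coe_set_eq, Nat.card_coe_set_eq, e, add_comm,
      Set.ncard_diff_add_ncard_of_subset (fun g hg => hg.1)]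

theorem search_false [IsSimpleGroup G] (hG : ¬ IsMulCommutative G) (h19 : 19 ∣ Nat.card G)
    {D : List ℕ} (hD : ∀ a, a ∣ Nat.card G → a ∈ D) (h210 : 210 ≤ Nat.card (Sylow 19 G)) : ∀ (ps pre : List ℕ),
    (∀ p ∈ pre ++ ps, p.Prime ∧ p ∣ Nat.card G ∧ ¬ p ^ 2 ∣ Nat.card G) → (pre ++ ps).Nodup →
    search (Nat.card G) D ps (pre.map fun p => (p, sel G p)) = false
  | [], pre, hp, hnd => by
    rw [List.append_nil] at hp hnd
    rw [search, List.any_eq_false]
    intro l hl hle
    replace hl := perm_of_mem_perms hl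
    obtain ⟨l', hl', rfl⟩ : ∃ l' : List ℕ, l'.Perm pre ∧ l = l'.map fun p => (p, sel G p) := by
      refine ⟨l.map Prod.fst, by simpa [Function.comp_def] using hl.map Prod.fst, ?_⟩
      rw [List.map_map]
      refine (List.map_congr_left fun x hx => ?_).trans (List.map_id l) |>.symm
      obtain ⟨q, -, rfl⟩ := List.mem_map.mp (hl.subset hx)
      rfl
    have h := total_le (G := G) l' [] (fun q hq => hp q (hl'.subset hq)) (by simp)
      (by simpa using hl'.nodup_iff.mpr hnd)
    have hlt : Nat.card (avoid (G := G) []) < Nat.card G := by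
      rw [Nat.card_coe_set_eq, ← Set.ncard_univ]
      exact Set.ncard_lt_ncard (Set.ssubset_univ_iff.mpr fun e =>
        ((Set.eq_univ_iff_forall.mp e 1).1 rfl)) (Set.toFinite _)
    have := of_decide_eq_true hle
    omega
  | p :: ps, pre, hp, hnd => by
    obtain ⟨hpr, h1, h2⟩ := hp p (by simp)
    have := Fact.mk hpr
    rw [search, List.all_eq_false]
    refine ⟨sel G p, sel_mem_opts hG h19 hD h210 h1 h2, ?_⟩
    have hc : compat p (sel G p) (pre.map fun p => (p, sel G p)) = true := by
      rw [compat, List.all_eq_true]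
      intro x hx
      obtain ⟨q, hq, rfl⟩ := List.mem_map.mp hx
      obtain ⟨hqr, hq1, hq2⟩ := hp q (List.mem_append_left _ hq)
      have := Fact.mk hqr
      simp only [beq_iff_eq]
      rw [Bool.eq_iff_iff, beq_iff_eq, beq_iff_eq, ← Nat.dvd_iff_mod_eq_zero, ← Nat.dvd_iff_mod_eq_zero]
      exact ⟨dvd_sel_symm h1 h2 hq1 hq2, dvd_sel_symm hq1 hq2 h1 h2⟩
    have hperm : (p :: pre ++ ps).Perm (pre ++ p :: ps) := List.perm_middle.symm
    have ih := search_false hG h19 hD h210 ps (p :: pre)
      (fun q hq => hp q (hperm.subset hq)) (hperm.nodup_iff.mpr hnd)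
    simp only [hc, Bool.not_true, Bool.false_or]
    simpa using ih

end Group

end CfsgLib.SmallGroups.Order175560
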