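import Cfsg.Agent.Lib.SmallGroups.Order175560.Count
import Cfsg.Agent.Lib.PrimeDegreeTwo.Dichotomy
import Cfsg.Agent.Lib.PGroup.SelfCentSimple.PSL
import Mathlib

/-!
# Groups of order 175560

A group whose order properly divides `175560` and is divisible by `19` has a normal Sylow
`19`-subgroup, so a group of order `175560` is simple or has one.
-/

set_option autoImplicit false

namespace CfsgLib.SmallGroups.Order175560

open Subgroup
open scoped Pointwise

/-- The factorisation of `175560`. -/
def full : List (ℕ × ℕ) := [(2, 3), (3, 1), (5, 1), (7, 1), (11, 1), (19, 1)]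

theorem mem_divs {a : ℕ} (h : a ∣ 175560) : a ∈ divsOf full :=
  mem_divsOf full (by simp only [full, List.forall_mem_cons]; norm_num) (by simpa [full] using h)

/-- The odd primes dividing `d` (all exactly once). -/
def oddPrimes (d : ℕ) : List ℕ := [3, 5, 7, 11, 19].filter fun p => d % p == 0

/-- The test for all orders with at least `210` Sylow `19`-subgroups. -/
def allBad : Bool :=
  (((divsOf full).filter fun d => decide (d < 175560) && (d % 3990 == 0 || d % 29260 == 0))).all
    fun d => search d ((divsOf full).filter fun a => d % a == 0) (oddPrimes d) []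

theorem allBad_true : allBad = true := by decide +kernel

theorem sylow_numbers : ((divsOf full).filter fun n => 9240 % n == 0 && n % 19 == 1) =
    ((divsOf full).filter fun n => n == 1 || n == 20 || n == 77 || n == 210 || n == 1540) := by
  decide +kernel

universe u

theorem not_simple {H : Type u} [Group H] [Finite H] [IsSimpleGroup H] (hd : Nat.card H ∣ 175560)
    (hlt : Nat.card H < 175560) (h19 : 19 ∣ Nat.card H) (hna : ¬ IsMulCommutative H) : False := by
  have : Fact (Nat.Prime 19) := ⟨by norm_num⟩
  have hsq : ∀ p : ℕ, p ∈ [3, 5, 7, 11, 19] → ¬ p ^ 2 ∣ Nat.card H := fun p hp h => by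
    have h' := h.trans hd
    fin_cases hp <;> norm_num at h'
  obtain ⟨P⟩ : Nonempty (Sylow 19 H) := inferInstance
  have hP := card_sylow_prime h19 (hsq 19 (by simp)) P
  have hNG := card_sylow_mul_card_normalizer P
  have hN19 : 19 ∣ Nat.card (normalizer ((P : Subgroup H) : Set H)) :=
    (dvd_of_eq hP.symm).trans (card_dvd_of_le le_normalizer)
  set n := Nat.card (Sylow 19 H) with hn
  have hn19d : n * 19 ∣ Nat.card H := hNG ▸ mul_dvd_mul_left n hN19
  have hn9240 : n ∣ 9240 :=
    Nat.dvd_of_mul_dvd_mul_right (by norm_num : 0 < 19) (hn19d.trans (hd.trans (by norm_num)))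
  have hmem : n ∈ (divsOf full).filter fun k => 9240 % k == 0 && k % 19 == 1 := by
    rw [List.mem_filter]
    refine ⟨mem_divs (hn9240.trans (by norm_num)), ?_⟩
    simp only [Bool.and_eq_true, beq_iff_eq]
    exact ⟨Nat.mod_eq_zero_of_dvd hn9240, mod_eq_one_card_sylow⟩
  rw [sylow_numbers, List.mem_filter] at hmem
  have hn5 : n = 1 ∨ n = 20 ∨ n = 77 ∨ n = 210 ∨ n = 1540 := by
    simpa [or_assoc] using hmem.2
  -- `20` and `77` Sylow subgroups lead to `PSL(2, 19)`
  have key : ∀ t, 0 < t → n = t * 19 + 1 → (∀ u, 0 < u → u < t → ¬ (u * 19 + 1) ∣ (19 - 1) * (t * 19 + 1)) → False := by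
    intro t ht hnt hno
    have hperf : commutator H = ⊤ :=
      (IsSimpleGroup.eq_bot_or_eq_top_of_normal (commutator H) inferInstance).resolve_left fun e =>
        hna ⟨⟨fun a b => commutatorElement_eq_one_iff_mul_comm.mp
          ((mem_bot).mp (e ▸ commutator_mem_commutator (mem_top a) (mem_top b)))⟩⟩
    have hcore : Cfsg.pPrimeCore 19 H = ⊥ := by
      rw [CfsgLib.Cores.pPrimeCore_eq_bot_iff]
      intro N hN hco
      exact (IsSimpleGroup.eq_bot_or_eq_top_of_normal N hN).resolve_right fun e => by
        rw [e, card_top] at hco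
        exact (Nat.Prime.coprime_iff_not_dvd (by norm_num)).mp hco.symm h19
    have := Fintype.ofFinite H
    obtain ⟨-, ⟨F, _, _, hF, ⟨e⟩⟩ | ⟨m, F, _, _, -, hm, -⟩⟩ :=
      CfsgLib.PrimeDegreeTwo.Dichotomy.main hperf hcore P hP ht hnt hno
    · have h2 : (2 : F) ≠ 0 := fun h => by
        have h19F : ((19 : ℕ) : F) = 0 := hF ▸ Nat.cast_card_eq_zero F
        have : (1 : F) = 0 := by
          rw [show ((19 : ℕ) : F) = 2 * 9 + 1 by norm_num] at h19F
          rw [h, zero_mul, zero_add] at h19F
          exact h19F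
        exact one_ne_zero this
      have hc := CfsgLib.PGroup.SelfCentSimple.two_card_psl (F := F) h2
      rw [← Nat.card_congr e.toEquiv, hF] at hc
      have : Nat.card H = 3420 := by omega
      rw [this] at hd
      norm_num at hd
    · have hm5 : m < 5 := by
        by_contra h
        push Not at h
        have := Nat.pow_le_pow_right (show 1 ≤ 2 by norm_num) h
        omega
      interval_cases m <;> norm_num at hm
  rcases hn5 with h | h | h | h | h
  · exact card_sylow_ne_one hna h19 (hn ▸ h)
  · exact key 1 one_pos (by omega) fun u hu hu' => by omega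
  · exact key 4 (by norm_num) (by omega) fun u hu hu' => by interval_cases u <;> norm_num
  all_goals
    have hbad := List.all_eq_true.mp allBad_true (Nat.card H) (by
      rw [List.mem_filter]
      refine ⟨mem_divs hd, ?_⟩
      rw [h] at hn19d
      simp only [Bool.and_eq_true, Bool.or_eq_true, beq_iff_eq, decide_eq_true_eq]
      exact ⟨hlt, by omega⟩)
    have hf := search_false hna h19 (D := (divsOf full).filter fun a => Nat.card H % a == 0) (fun a ha =>
        List.mem_filter.mpr ⟨mem_divs (ha.trans hd), by simpa using Nat.mod_eq_zero_of_dvd ha⟩)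
      (by show 210 ≤ n; omega) (oddPrimes (Nat.card H)) [] (fun p hp => by
        rw [List.nil_append, oddPrimes, List.mem_filter, beq_iff_eq] at hp
        refine ⟨?_, Nat.dvd_of_mod_eq_zero hp.2, hsq p hp.1⟩
        have := hp.1
        fin_cases this <;> norm_num) (List.Nodup.filter _ (by decide))
    exact Bool.false_ne_true (hf.symm.trans hbad)

/-- The step of the induction. -/
theorem normal_of_not_simple {H : Type u} [Group H] [Finite H] (hd : Nat.card H ∣ 175560)
    (h19 : 19 ∣ Nat.card H)
    (ih : ∀ (K : Type u) [Group K] [Finite K], Nat.card K ∣ 175560 → Nat.card K < Nat.card H →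
      19 ∣ Nat.card K → ∀ Q : Sylow 19 K, (Q : Subgroup K).Normal)
    (N : Subgroup H) [N.Normal] (hN1 : N ≠ ⊥) (hN2 : N ≠ ⊤) (P : Sylow 19 H) :
    (P : Subgroup H).Normal := by
  have : Fact (Nat.Prime 19) := ⟨by norm_num⟩
  have hP := card_sylow_prime h19 (fun h => by have h' := h.trans hd; norm_num at h') P
  have inner : ∀ (M : Subgroup H) [M.Normal], M ≠ ⊤ → 19 ∣ Nat.card M → (P : Subgroup H).Normal := by
    intro M _ hM hM19
    have hPM := CfsgLib.PrimeDegreeTwo.Dichotomy.sylow_le_of_dvd P hP M inferInstance hM19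
    let Q : Sylow 19 M := P.subtype hPM
    have hQ : (Q : Subgroup M).Normal := ih M ((card_subgroup_dvd_card M).trans hd)
      (lt_of_le_of_ne (Nat.le_of_dvd Nat.card_pos (card_subgroup_dvd_card M))
        fun e => hM (card_eq_iff_eq_top M |>.mp e)) hM19 Q
    have := Sylow.characteristic_of_normal Q hQ
    have e : ((Q : Subgroup M)).map M.subtype = (P : Subgroup H) := by
      rw [Sylow.coe_subtype, subgroupOf_map_subtype, inf_eq_left.mpr hPM]
    rw [← e]
    infer_instance
  by_cases hN19 : 19 ∣ Nat.card N
  · exact inner N hN2 hN19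
  have hidx := N.index_mul_card
  have h19q : 19 ∣ Nat.card (H ⧸ N) := by
    rw [← hidx] at h19
    rw [← index_eq_card]
    exact ((Nat.Prime.dvd_mul (by norm_num)).mp h19).resolve_right hN19
  have hlt : Nat.card (H ⧸ N) < Nat.card H := by
    rw [← hidx, ← index_eq_card]
    exact lt_mul_of_one_lt_right (Nat.pos_of_ne_zero index_ne_zero_of_finite)
      ((one_lt_card_iff_ne_bot N).mpr hN1)
  have hQn := ih (H ⧸ N) ((card_quotient_dvd_card N).trans hd) hlt h19q
    (P.mapSurjective (QuotientGroup.mk'_surjective N))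
  rw [Sylow.coe_mapSurjective] at hQn
  have hMn : ((P : Subgroup H) ⊔ N).Normal := by
    rw [← QuotientGroup.ker_mk' N, ← comap_map_eq]
    exact hQn.comap _
  by_cases hM : (P : Subgroup H) ⊔ N = ⊤
  swap
  · exact inner _ hM ((dvd_of_eq hP.symm).trans (card_dvd_of_le le_sup_left))
  -- `H = P N`; then `P` centralises `N`
  have hN9240 : Nat.card N ∣ 9240 := by
    refine (Nat.Coprime.dvd_of_dvd_mul_left ?_ ((card_subgroup_dvd_card N).trans (hd.trans
      (by norm_num : 175560 ∣ 19 * 9240))))
    exact ((Nat.Prime.coprime_iff_not_dvd (by norm_num)).mpr hN19).symm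
  let ψ : (P : Subgroup H) →* MulAut N := (MulAut.conjNormal).comp (P : Subgroup H).subtype
  let actN : MulDistribMulAction (P : Subgroup H) N := MulDistribMulAction.compHom N ψ
  have hcent : N ≤ centralizer ((P : Subgroup H) : Set H) := by
    refine fun y hy => ?_
    suffices h : (⟨y, hy⟩ : N) ∈ (centralizer ((P : Subgroup H) : Set H)).subgroupOf N from h
    suffices h : (centralizer ((P : Subgroup H) : Set H)).subgroupOf N = ⊤ by rw [h]; exact mem_top _
    rw [← card_eq_iff_eq_top]
    refine Nat.dvd_antisymm (card_subgroup_dvd_card _)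
      ((Nat.dvd_iff_prime_pow_dvd_dvd _ _).mpr fun r k hr hk => ?_)
    rcases Nat.eq_zero_or_pos k with rfl | hk0
    · exact one_dvd _
    have := Fact.mk hr
    -- a Sylow `r`-subgroup of `N` fixed by `P`
    have hnr : ¬ 19 ∣ Nat.card (Sylow r N) := fun h => hN19 (h.trans card_sylow_dvd_card)
    obtain ⟨R, hR⟩ := P.isPGroup'.nonempty_fixed_point_of_prime_not_dvd_card (Sylow r N) hnr
    let Rset := (R : Subgroup N)
    have hfix : ∀ u : (P : Subgroup H), ∀ z ∈ Rset, ψ u z ∈ Rset := by
      intro u z hz
      have h1 : ((u • R : Sylow r N) : Subgroup N) = Rset :=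
        congrArg (fun S : Sylow r N => (S : Subgroup N)) (hR u)
      rw [← h1, Sylow.pointwise_smul_def]
      exact Subgroup.smul_mem_pointwise_smul z u Rset hz
    let f : (P : Subgroup H) →* Equiv.Perm Rset :=
      { toFun := fun u =>
          { toFun := fun z => ⟨ψ u z, hfix u z z.2⟩
            invFun := fun z => ⟨ψ u⁻¹ z, hfix u⁻¹ z z.2⟩
            left_inv := fun z => Subtype.ext (by
              show ψ u⁻¹ (ψ u z.1) = z.1
              rw [← MulAut.mul_apply, ← map_mul, inv_mul_cancel, map_one, MulAut.one_apply])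
            right_inv := fun z => Subtype.ext (by
              show ψ u (ψ u⁻¹ z.1) = z.1
              rw [← MulAut.mul_apply, ← map_mul, mul_inv_cancel, map_one, MulAut.one_apply]) }
        map_one' := Equiv.ext fun z => Subtype.ext (by show ψ 1 z.1 = z.1; rw [map_one]; rfl)
        map_mul' := fun u v => Equiv.ext fun z => Subtype.ext (by
          show ψ (u * v) z.1 = ψ u (ψ v z.1); rw [map_mul]; rfl) }
    have hsmall : Nat.card Rset ≤ 11 := by
      obtain ⟨i, hi⟩ := IsPGroup.iff_card.mp R.isPGroup'
      have h1 : r ^ i ∣ 9240 := hi ▸ (card_subgroup_dvd_card Rset).trans hN9240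
      show Nat.card (R : Subgroup N) ≤ 11
      rw [hi]
      rcases Nat.eq_zero_or_pos i with rfl | hi0
      · simp
      have hr9240 : r ∣ 9240 := (dvd_pow_self r hi0.ne').trans h1
      have hr5 : r = 2 ∨ r = 3 ∨ r = 5 ∨ r = 7 ∨ r = 11 := by
        have h3 : r ∈ Nat.primeFactors 9240 := Nat.mem_primeFactors.mpr ⟨hr, hr9240, by norm_num⟩
        rw [show (9240 : ℕ) = 2 ^ 3 * (3 * (5 * (7 * 11))) by norm_num, Nat.primeFactors_mul (by norm_num) (by norm_num),
          Nat.primeFactors_mul (by norm_num) (by norm_num), Nat.primeFactors_mul (by norm_num) (by norm_num),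
          Nat.primeFactors_mul (by norm_num) (by norm_num), Nat.primeFactors_prime_pow (by norm_num) Nat.prime_two,
          (Nat.Prime.primeFactors (by norm_num : Nat.Prime 3)), (Nat.Prime.primeFactors (by norm_num : Nat.Prime 5)),
          (Nat.Prime.primeFactors (by norm_num : Nat.Prime 7)), (Nat.Prime.primeFactors (by norm_num : Nat.Prime 11))] at h3
        simp only [Finset.mem_union, Finset.mem_singleton] at h3
        tauto
      rcases hr5 with rfl | rfl | rfl | rfl | rfl
      · have : i ≤ 3 := by
          by_contra h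
          have h' := (pow_dvd_pow 2 (show 4 ≤ i by omega)).trans h1
          norm_num at h'
        exact (Nat.pow_le_pow_right (by norm_num) this).trans (by norm_num)
      all_goals
        have : i ≤ 1 := by
          by_contra h
          have h' := (pow_dvd_pow _ (show 2 ≤ i by omega)).trans h1
          norm_num at h'
        exact (Nat.pow_le_pow_right (by norm_num) this).trans (by norm_num)
    have htriv : ∀ u, f u = 1 := fun u => by
      refine orderOf_eq_one_iff.mp ?_
      have h1 : orderOf (f u) ∣ 19 :=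
        (orderOf_map_dvd f u).trans ((_root_.orderOf_dvd_natCard u).trans (dvd_of_eq hP))
      refine (Nat.Prime.eq_one_or_self_of_dvd (by norm_num) _ h1).resolve_right fun e => ?_
      have h2 := _root_.orderOf_dvd_natCard (f u)
      rw [e, Nat.card_perm, Nat.Prime.dvd_factorial (by norm_num)] at h2
      omega
    have hRC : Rset ≤ (centralizer ((P : Subgroup H) : Set H)).subgroupOf N := by
      intro z hz
      rw [mem_subgroupOf, mem_centralizer_iff]
      intro u hu
      have h1 := congrArg Subtype.val (congrArg Subtype.val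
        (Equiv.congr_fun (htriv ⟨u, hu⟩) ⟨z, hz⟩))
      have h2 : u * (z : H) * u⁻¹ = z := h1
      exact mul_inv_eq_iff_eq_mul.mp h2
    exact ((pow_dvd_pow r ((hr.pow_dvd_iff_le_factorization Nat.card_pos.ne').mp hk)).trans
      (dvd_of_eq R.card_eq_multiplicity.symm)).trans (card_dvd_of_le hRC)
  have htop : centralizer ((P : Subgroup H) : Set H) = ⊤ := by
    rw [eq_top_iff, ← hM]
    exact sup_le (sylow_le_centralizer hP) hcent
  refine ⟨fun a ha g => ?_⟩
  have hg : g ∈ centralizer ((P : Subgroup H) : Set H) := htop ▸ mem_top g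
  rw [← mem_centralizer_iff.mp hg a ha, mul_inv_cancel_right]
  exact ha

theorem normal_of_proper : ∀ (d : ℕ) (H : Type u) [Group H] [Finite H], Nat.card H = d →
    d ∣ 175560 → d < 175560 → 19 ∣ d → ∀ P : Sylow 19 H, (P : Subgroup H).Normal := by
  intro d
  induction d using Nat.strong_induction_on with
  | h d ih =>
    intro H _ _ hH hd hlt h19 P
    subst hH
    by_cases hc : IsMulCommutative H
    · exact ⟨fun a ha g => by rw [hc.is_comm.comm g a, mul_inv_cancel_right]; exact ha⟩
    by_cases hs : IsSimpleGroup H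
    · exact (not_simple hd hlt h19 hc).elim
    obtain ⟨N, hN, hN1, hN2⟩ : ∃ N : Subgroup H, N.Normal ∧ N ≠ ⊥ ∧ N ≠ ⊤ := by
      by_contra hne
      push Not at hne
      have : Nontrivial H := Finite.one_lt_card_iff_nontrivial.mp
        (lt_of_lt_of_le (by norm_num) (Nat.le_of_dvd Nat.card_pos h19))
      exact hs ⟨fun N hN => or_iff_not_imp_left.mpr fun h => hne N hN h⟩
    exact normal_of_not_simple hd h19 (fun K _ _ hK hK' hK19 Q =>
      ih _ hK' K rfl hK (hK'.trans hlt) hK19 Q) N hN1 hN2 P

theorem main {G : Type u} [Group G] [Finite G] (hG : Nat.card G = 175560) :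
    IsSimpleGroup G ∨ ∀ P : Sylow 19 G, (P : Subgroup G).Normal := by
  by_cases hs : IsSimpleGroup G
  · exact Or.inl hs
  refine Or.inr fun P => ?_
  obtain ⟨N, hN, hN1, hN2⟩ : ∃ N : Subgroup G, N.Normal ∧ N ≠ ⊥ ∧ N ≠ ⊤ := by
    by_contra hne
    push Not at hne
    have : Nontrivial G := Finite.one_lt_card_iff_nontrivial.mp (by omega)
    exact hs ⟨fun N hN => or_iff_not_imp_left.mpr fun h => hne N hN h⟩
  exact normal_of_not_simple (dvd_of_eq hG) (hG ▸ (by norm_num : 19 ∣ 175560))
    (fun K _ _ hK hK' hK19 Q => normal_of_proper _ K rfl hK (hG ▸ hK') hK19 Q) N hN1 hN2 P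

end CfsgLib.SmallGroups.Order175560
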